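import Cfsg.Agent.H766.Frame
import Cfsg.Agent.H766.OrderCube
import Cfsg.Agent.H467.MaxClassUniform
import Cfsg.Agent.S4143
set_option linter.all false

-- part: H766/PearlLift
section
/-!
# Pearls: lifting automorphisms to `S` (helper766)
-/

set_option autoImplicit false

namespace Cfsg.Agent.H766

open Cfsg Cfsg.FusionSystem Cfsg.Agent.H802
open Matrix (SpecialLinearGroup)
open Cfsg.Agent.ClassicalGeometry.SplitTorus (up lo dg dg_conj_up)
open scoped commutatorElement

variable {Ω : Type*} [Group Ω] {S : Subgroup Ω}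

/-- The maps of `F` which, if their source contains a conjugate of `D`, extend to elements of `Aut_F(S)`. -/
def extSystem (F : FusionSystem S) (D : Subgroup Ω) : FusionSystem S where
  Hom P := {φ | φ ∈ F.Hom P ∧ ((∃ D' ≤ P, F.IsConj D D') →
    ∃ α ∈ F.autGroup S, ∀ (x : P) (hx : (x : Ω) ∈ S), φ x = (α ⟨x, hx⟩ : S))}
  le_of_mem h := F.le_of_mem h.1
  injective_of_mem h := F.injective_of_mem h.1
  conj_mem := by
    intro P g hP hg
    refine ⟨F.conj_mem hP hg, fun _ => ⟨MulAut.conj ⟨g, hg⟩, inn_le_autGroup F le_rfl ⟨_, rfl⟩,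
      fun x hx => rfl⟩⟩
  comp_mem := by
    rintro P Q φ ψ ⟨hφ, hφ'⟩ ⟨hψ, hψ'⟩ h
    refine ⟨F.comp_mem hφ hψ h, ?_⟩
    rintro ⟨D', hD', hDD'⟩
    obtain ⟨α, hα, hαe⟩ := hφ' ⟨D', hD', hDD'⟩
    obtain ⟨β, hβ, hβe⟩ := hψ' ⟨(φ.comp (Subgroup.inclusion hD')).range, by
      rintro _ ⟨x, rfl⟩
      exact h _, isConj_trans hDD' (isConj_range (restrict_mem hφ hD'))⟩
    refine ⟨β * α, (F.autGroup S).mul_mem hβ hα, fun x hx => ?_⟩
    show ψ ⟨φ x, h x⟩ = ((β (α ⟨x, hx⟩) : S) : Ω)
    rw [hβe ⟨φ x, h x⟩ (hom_apply_mem hφ x)]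
    congr 2
    exact Subtype.ext (hαe x hx)
  inv_mem := by
    rintro P φ ⟨hφ, hφ'⟩
    obtain ⟨ψ, hψ, hψe⟩ := F.inv_mem hφ
    refine ⟨ψ, ⟨hψ, ?_⟩, hψe⟩
    rintro ⟨D', hD', hDD'⟩
    have hle : (ψ.comp (Subgroup.inclusion hD')).range ≤ P := by
      rintro _ ⟨⟨x, hx⟩, rfl⟩
      obtain ⟨y, rfl⟩ := hD' hx
      have h1 := hψe y
      show ψ ⟨φ y, _⟩ ∈ P
      rw [h1]
      exact y.2
    obtain ⟨α, hα, hαe⟩ := hφ' ⟨_, hle, isConj_trans hDD' (isConj_range (restrict_mem hψ hD'))⟩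
    refine ⟨α⁻¹, (F.autGroup S).inv_mem hα, ?_⟩
    rintro ⟨_, y, rfl⟩ hx
    rw [hψe y]
    have h1 : (⟨φ y, hx⟩ : S) = α ⟨y, hom_le hφ y.2⟩ := Subtype.ext (hαe y _)
    show (y : Ω) = ((α⁻¹ ⟨φ y, hx⟩ : S) : Ω)
    rw [h1, MulAut.inv_apply_self]

/-- If no essential subgroup contains a conjugate of `D`, then every map of `F` whose source contains a
conjugate of `D` extends to an element of `Aut_F(S)`. -/
theorem exists_ext_of_no_essential {p : ℕ} [Fact p.Prime] [Finite S] (hS : IsPGroup p S)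
    {F : FusionSystem S} (hF : F.IsSaturated p) (D : Subgroup Ω)
    (hD : ∀ Q : Subgroup Ω, F.IsEssential p Q → ∀ D' ≤ Q, ¬ F.IsConj D D')
    {P : Subgroup Ω} {φ : P →* Ω} (hφ : φ ∈ F.Hom P) {D' : Subgroup Ω} (hD' : D' ≤ P)
    (hDD' : F.IsConj D D') :
    ∃ α ∈ F.autGroup S, ∀ (x : P) (hx : (x : Ω) ∈ S), φ x = (α ⟨x, hx⟩ : S) := by
  have key := le_of_essential hS hF (extSystem F D) ?_ ?_ P
  · exact (key hφ).2 ⟨D', hD', hDD'⟩
  · intro α hα
    rw [mem_autGroup_iff _ le_rfl]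
    refine ⟨(mem_autGroup_iff F le_rfl α).1 hα, fun _ => ⟨α, hα, fun x hx => rfl⟩⟩
  · intro Q hQ _ α hα
    have hle := ess_le hQ
    rw [mem_autGroup_iff _ hle]
    refine ⟨(mem_autGroup_iff F hle α).1 hα, ?_⟩
    rintro ⟨D', hD', hDD'⟩
    exact absurd hDD' (hD Q hQ D' hD')

/-- A subgroup of order at least `p⁴` and maximal class is not essential. -/
theorem not_essential_of_maxClass {p : ℕ} [hp : Fact p.Prime] [Finite S] (hS : IsPGroup p S)
    {F : FusionSystem S} {H : Subgroup Ω} (hH : F.IsEssential p H) {m : ℕ} (hm : 4 ≤ m)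
    (hcard : Nat.card H = p ^ m) (hcl : Group.nilpotencyClass H = m - 1) : False := by
  have hle := ess_le hH
  have : Finite H := finite_of_le hle
  have hHp : IsPGroup p H := hS.to_le hle
  have hidx := Cfsg.Agent.H467.MaxClass.twoStep_index hcard hcl hm
  -- the Frattini subgroup lies in the two-step centralizer
  have hΦ : frattini H ≤ Cfsg.Agent.H467.MaxClass.twoStep H := by
    apply frattini_le_coatom
    refine ⟨fun h => ?_, fun K hK => ?_⟩
    · rw [h, Subgroup.index_top] at hidx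
      exact hp.out.one_lt.ne hidx
    · have h1 := Subgroup.relIndex_mul_index hK.le
      rw [hidx] at h1
      have h2 : K.index ∣ p := ⟨_, by rw [← h1, mul_comm]⟩
      rcases (Nat.dvd_prime hp.out).1 h2 with h3 | h3
      · exact Subgroup.index_eq_one.1 h3
      · exfalso
        rw [h3] at h1
        have h4 := Nat.eq_of_mul_eq_mul_right hp.out.pos (by rw [h1, one_mul] :
          (Cfsg.Agent.H467.MaxClass.twoStep H).relIndex K * p = 1 * p)
        exact hK.not_ge (Subgroup.relIndex_eq_one.1 h4)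
  refine ess_flag hS hH (Cfsg.Agent.H467.MaxClass.twoStep H) ?_ hΦ (Or.inr hidx) ?_
  · intro α _ x hx
    rw [Cfsg.Agent.H467.MaxClass.mem_twoStep] at hx ⊢
    intro w hw
    have hchar : ∀ (i : ℕ) (β : MulAut H) (z : H), z ∈ (⊤ : Subgroup H).lowerCentralSeries i →
        β z ∈ (⊤ : Subgroup H).lowerCentralSeries i := by
      intro i β z hz
      have h3 := (Subgroup.characteristic_iff_comap_eq.1
        (inferInstance : ((⊤ : Subgroup H).lowerCentralSeries i).Characteristic)) β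
      rw [← h3] at hz
      exact hz
    have h1 := hx (α⁻¹ w) (hchar 1 α⁻¹ w hw)
    have h2 := hchar 3 α _ h1
    rw [map_commutatorElement, MulAut.apply_inv_self] at h2
    exact h2
  · have h1 : commutator H ≤ frattini H := Cfsg.Agent.Lib.FrattiniPGroup.commutator_le_frattini hHp
    have hcm : (commutator H).index = p ^ 2 := by
      have := (Cfsg.Agent.H467.MaxClass.lcs_card hcard hcl (by omega) (i := 1) le_rfl (by omega)).2
      exact this
    have h2 := Subgroup.relIndex_mul_index hΦ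
    rw [hidx] at h2
    have h3 : (frattini H).index ∣ p ^ 2 := by
      rw [← hcm]
      exact Subgroup.index_dvd_of_le h1
    have h4 : (frattini H).relIndex (Cfsg.Agent.H467.MaxClass.twoStep H) ∣ p := by
      rw [← h2, sq] at h3
      exact Nat.dvd_of_mul_dvd_mul_right hp.out.pos h3
    exact (Nat.dvd_prime hp.out).1 h4

/-- A pearl: an essential subgroup of order `p²`, or nonabelian of order `p³`. -/
structure IsPearl (F : FusionSystem S) (p : ℕ) (E : Subgroup Ω) : Prop where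
  ess : F.IsEssential p E
  shape : Nat.card E = p ^ 2 ∨ (Nat.card E = p ^ 3 ∧ ¬ IsMulCommutative E)

/-- Subgroups of `S` containing a conjugate of a pearl are of maximal class. -/
theorem maxClass_of_conj {p : ℕ} [hp : Fact p.Prime] [Finite S]
    {F : FusionSystem S} {E : Subgroup Ω} (hE : IsPearl F p E) {E' H : Subgroup Ω}
    (hEE' : F.IsConj E E') (hE'H : E' ≤ H) (hHS : H ≤ S) {m : ℕ} (hcard : Nat.card H = p ^ m) :
    Group.nilpotencyClass H = m - 1 := by
  have hfin : Finite H := finite_of_le hHS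
  have hcent : centralizerIn S E' ≤ E' := hE.ess.1.2 E' hEE'
  have hc' : Nat.card (E'.subgroupOf H) = Nat.card E' :=
    Nat.card_congr (Subgroup.subgroupOfEquivOfLe hE'H).toEquiv
  have hcc := isConj_card_eq hEE'
  have hC : Subgroup.centralizer ((E'.subgroupOf H : Subgroup H) : Set H) ≤ E'.subgroupOf H := by
    intro h hh
    rw [Subgroup.mem_subgroupOf]
    apply hcent
    refine ⟨hHS h.2, Subgroup.mem_centralizer_iff.2 fun x hx => ?_⟩
    have h1 := Subgroup.mem_centralizer_iff.1 hh ⟨x, hE'H hx⟩ (by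
      show _ ∈ E'.subgroupOf H
      rw [Subgroup.mem_subgroupOf]
      exact hx)
    exact congrArg Subtype.val h1
  rcases hE.shape with h2 | ⟨h3, hna⟩
  · refine Cfsg.Agent.S0112.result m hcard (E'.subgroupOf H) (by rw [hc', ← hcc, h2]) ?_
    apply le_antisymm hC
    have hcomm : IsMulCommutative (E'.subgroupOf H) :=
      IsPGroup.isMulCommutative_of_card_eq_prime_sq (by rw [hc', ← hcc, h2])
    intro a ha
    rw [Subgroup.mem_centralizer_iff]
    intro b hb
    have := hcomm.is_comm.comm (⟨b, hb⟩ : E'.subgroupOf H) ⟨a, ha⟩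
    exact congrArg Subtype.val this
  · refine Cfsg.Agent.S4143.result m hcard (E'.subgroupOf H) (by rw [hc', ← hcc, h3]) ?_ hC
    intro hcomm
    apply hna
    obtain ⟨φ, hφ, rfl⟩ := hEE'
    refine ⟨⟨fun a b => ?_⟩⟩
    apply F.injective_of_mem hφ
    rw [map_mul, map_mul]
    have h1 := hcomm.is_comm.comm
      (⟨⟨φ a, hE'H ⟨a, rfl⟩⟩, by rw [Subgroup.mem_subgroupOf]; exact ⟨a, rfl⟩⟩ :
        φ.range.subgroupOf H)
      ⟨⟨φ b, hE'H ⟨b, rfl⟩⟩, by rw [Subgroup.mem_subgroupOf]; exact ⟨b, rfl⟩⟩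
    exact congrArg (fun z : φ.range.subgroupOf H => ((z : H) : Ω)) h1

/-- `S` is of maximal class. -/
theorem pearl_maxClass {p : ℕ} [hp : Fact p.Prime] [Finite S]
    {F : FusionSystem S} {E : Subgroup Ω} (hE : IsPearl F p E) {n : ℕ}
    (hcard : Nat.card S = p ^ n) : Group.nilpotencyClass S = n - 1 :=
  maxClass_of_conj hE (isConj_refl F (ess_le hE.ess)) (ess_le hE.ess) le_rfl hcard

/-- Transitivity of `Aut_F(H)` on the nontrivial elements of `H / Φ(H)`. -/
theorem Frame.trans {p : ℕ} [hp : Fact p.Prime] {F : FusionSystem S} {H : Subgroup Ω} {x y : H}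
    {e : (H ⧸ frattini H) ≃* Multiplicative (Fin 2 → ZMod p)} (hfr : Frame F p H x y e)
    {u v : H} (hu : u ∉ frattini H) (hv : v ∉ frattini H) :
    ∃ α ∈ F.autGroup H, ((α u : H) : H ⧸ frattini H) = (v : H ⧸ frattini H) := by
  -- enough: every `v` is the image of `x`
  have key : ∀ v : H, v ∉ frattini H → ∃ α ∈ F.autGroup H,
      ((α x : H) : H ⧸ frattini H) = (v : H ⧸ frattini H) := by
    intro v hv
    have hv1 : (v : H ⧸ frattini H) ≠ 1 := fun h => hv ((QuotientGroup.eq_one_iff _).1 h)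
    have hv2 : (e (v : H ⧸ frattini H)).toAdd ≠ 0 := by
      intro h
      apply hv1
      apply e.injective
      rw [map_one]
      exact h
    have hev := eq_pow_mul_pow' e hfr.ex hfr.ey (v : H ⧸ frattini H)
    set c0 := (e (v : H ⧸ frattini H)).toAdd 0 with hc0
    set c1 := (e (v : H ⧸ frattini H)).toAdd 1 with hc1
    -- a matrix with first column `(c0, c1)`
    obtain ⟨g, hg0, hg1⟩ : ∃ g : SpecialLinearGroup (Fin 2) (ZMod p), g.1 0 0 = c0 ∧ g.1 1 0 = c1 := by
      by_cases h0 : c0 = 0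
      · have h1 : c1 ≠ 0 := by
          intro h1
          apply hv2
          ext i
          fin_cases i
          · exact h0
          · exact h1
        refine ⟨⟨!![c0, -c1⁻¹; c1, 0], ?_⟩, rfl, rfl⟩
        rw [Matrix.det_fin_two_of, h0]
        field_simp
        ring
      · refine ⟨⟨!![c0, 0; c1, c0⁻¹], ?_⟩, rfl, rfl⟩
        rw [Matrix.det_fin_two_of]
        field_simp
        ring
    obtain ⟨α, hα, hαe⟩ := hfr.sl g
    refine ⟨α, hα, ?_⟩
    rw [← barHom_mk, hαe, (congr_planeAct_apply' e hfr.ex hfr.ey g).1, hg0, hg1]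
    exact hev.symm
  obtain ⟨α, hα, hαe⟩ := key u hu
  obtain ⟨β, hβ, hβe⟩ := key v hv
  refine ⟨β * α⁻¹, (F.autGroup H).mul_mem hβ ((F.autGroup H).inv_mem hα), ?_⟩
  rw [← barHom_mk, map_mul, ← hαe, ← barHom_mk, map_inv, MulAut.mul_apply, MulAut.inv_apply_self,
    barHom_mk, hβe]

/-- No essential subgroup contains a conjugate of the normalizer of a pearl. -/
theorem pearl_normalizer_not_le {p : ℕ} [hp : Fact p.Prime] [Finite S] (hS : IsPGroup p S)
    {F : FusionSystem S} (hF : F.IsSaturated p) {E : Subgroup Ω} (hE : IsPearl F p E)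
    (Q : Subgroup Ω) (hQ : F.IsEssential p Q) (D' : Subgroup Ω) (hD' : D' ≤ Q)
    (hconj : F.IsConj (normalizerIn S E) D') : False := by
  have hES := ess_le hE.ess
  have hQS := ess_le hQ
  have hQfin : Finite Q := finite_of_le hQS
  have hEfin : Finite E := finite_of_le hES
  have hNfin : Finite (normalizerIn S E) := finite_of_le inf_le_left
  have hQp : IsPGroup p Q := hS.to_le hQS
  have hEN : E ≤ normalizerIn S E := le_normalizerIn hES
  have hDcard := isConj_card_eq hconj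
  obtain ⟨φ, hφ, hφr⟩ := hconj
  -- the image of `E`
  set E' : Subgroup Ω := (φ.comp (Subgroup.inclusion hEN)).range with hE'
  have hEE' : F.IsConj E E' := isConj_range (restrict_mem hφ hEN)
  have hE'Q : E' ≤ Q := by
    refine le_trans ?_ hD'
    rw [← hφr]
    rintro _ ⟨x, rfl⟩
    exact ⟨_, rfl⟩
  obtain ⟨m, hm⟩ := IsPGroup.iff_card.1 hQp
  have hcl := maxClass_of_conj hE hEE' hE'Q hQS hm
  have hlt := card_lt_card_normalizerIn hS hES (ne_of_isEssential hS hF hE.ess)
  have hQge : Nat.card (normalizerIn S E) ≤ Nat.card Q := by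
    rw [hDcard]
    exact Nat.card_le_card_of_injective _ (Subgroup.inclusion_injective hD')
  have hm3 : m ≤ 3 := by
    by_contra h
    exact not_essential_of_maxClass hS hQ (by omega) hm hcl
  have hNp : IsPGroup p (normalizerIn S E) := hS.to_le inf_le_left
  obtain ⟨j, hj⟩ := IsPGroup.iff_card.1 hNp
  have hpj : ∀ a b : ℕ, p ^ a < p ^ b → a < b := fun a b h => (Nat.pow_lt_pow_iff_right hp.out.one_lt).1 h
  have hjm : j ≤ m := by
    rw [hj, hm] at hQge
    exact (Nat.pow_le_pow_iff_right hp.out.one_lt).1 hQge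
  have hE2 : Nat.card E = p ^ 2 := by
    rcases hE.shape with h | ⟨h, -⟩
    · exact h
    · exfalso
      rw [h, hj] at hlt
      have := hpj _ _ hlt
      omega
  have hj3 : j = 3 := by
    rw [hE2, hj] at hlt
    have := hpj _ _ hlt
    omega
  have hm3' : m = 3 := by omega
  subst hm3'
  subst hj3
  -- `Q` is nonabelian
  have hnab : ¬ IsMulCommutative Q := by
    intro h
    have hC : E ≤ E := le_rfl
    have hcent : centralizerIn S E' ≤ E' := hE.ess.1.2 E' hEE'
    have h1 : Q ≤ E' := by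
      intro q hq
      apply hcent
      refine ⟨hQS hq, Subgroup.mem_centralizer_iff.2 fun z hz => ?_⟩
      have := h.is_comm.comm (⟨z, hE'Q hz⟩ : Q) ⟨q, hq⟩
      exact congrArg Subtype.val this
    have h2 : Nat.card Q ≤ Nat.card E' := by
      have : Finite E' := finite_of_le (hE'Q.trans hQS)
      exact Nat.card_le_card_of_injective _ (Subgroup.inclusion_injective h1)
    rw [← isConj_card_eq hEE', hE2, hm] at h2
    have := (Nat.pow_le_pow_iff_right hp.out.one_lt).1 h2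
    omega
  have hΦ : Nat.card (frattini Q) = p ∧ (frattini Q).index = p ^ 2 := by
    rcases ess_frattini_card_of_card_cube hS hQ hm with h | h
    · exfalso
      apply hnab
      exact ⟨⟨(mul_comm_of_frattini_eq_bot hQp h).1⟩⟩
    · exact h
  obtain ⟨x, y, e, hfr⟩ := exists_frame hS hF hQ hΦ.2
  have hxΦ : x ∉ frattini Q := by
    intro h
    have h1 := hfr.ex
    rw [(QuotientGroup.eq_one_iff x).2 h, map_one] at h1
    have h2 : (Multiplicative.toAdd (1 : Multiplicative (Fin 2 → ZMod p))) 0 = 1 := by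
      rw [h1]; rfl
    have h3 : (0 : ZMod p) = 1 := h2
    exact zero_ne_one h3
  -- the subgroup `D2`
  let B2 : Subgroup Q := (Subgroup.zpowers (x : Q ⧸ frattini Q)).comap (QuotientGroup.mk' (frattini Q))
  have hB2mem : ∀ q : Q, q ∈ B2 ↔ (q : Q ⧸ frattini Q) ∈ Subgroup.zpowers (x : Q ⧸ frattini Q) :=
    fun q => Iff.rfl
  have hx1 : (x : Q ⧸ frattini Q) ≠ 1 := fun h => hxΦ ((QuotientGroup.eq_one_iff _).1 h)
  have hexp : ∀ v : Q ⧸ frattini Q, v ^ p = 1 := by
    intro v
    obtain ⟨v, rfl⟩ := QuotientGroup.mk_surjective v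
    rw [← QuotientGroup.mk_pow, QuotientGroup.eq_one_iff]
    exact Cfsg.Agent.Lib.FrattiniPGroup.pow_mem_frattini hQp v
  have hB2idx : B2.index = p := by
    have h0 : B2.index = (Subgroup.zpowers (x : Q ⧸ frattini Q)).index :=
      Subgroup.index_comap_of_surjective _ (QuotientGroup.mk'_surjective _)
    rw [h0]
    have h1 : orderOf (x : Q ⧸ frattini Q) = p := orderOf_eq_prime (hexp _) hx1
    have h2 : Nat.card (Subgroup.zpowers (x : Q ⧸ frattini Q)) = p := by rw [Nat.card_zpowers, h1]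
    have h3 := Subgroup.card_mul_index (Subgroup.zpowers (x : Q ⧸ frattini Q))
    have h4 : Nat.card (Q ⧸ frattini Q) = p ^ 2 := hΦ.2
    rw [h2, h4, sq] at h3
    exact Nat.eq_of_mul_eq_mul_left hp.out.pos h3
  have hB2card : Nat.card B2 = p ^ 2 := by
    have h3 := Subgroup.card_mul_index B2
    rw [hB2idx, hm] at h3
    exact Nat.eq_of_mul_eq_mul_right hp.out.pos (by rw [h3]; ring)
  have hB2n : B2.Normal := by
    refine ⟨fun b hb q => ?_⟩
    have hcomm := comm_of_equiv e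
    rw [hB2mem] at hb ⊢
    rw [QuotientGroup.mk_mul, QuotientGroup.mk_mul, hcomm, QuotientGroup.mk_inv, inv_mul_cancel_left]
    exact hb
  let D2 : Subgroup Ω := B2.map Q.subtype
  have hD2Q : D2 ≤ Q := by
    rintro _ ⟨q, -, rfl⟩
    exact q.2
  -- an element of `N_S(Q)` outside `Q`
  obtain ⟨g, hgN, hgQ⟩ : ∃ g ∈ normalizerIn S Q, g ∉ Q := by
    by_contra hcon
    push Not at hcon
    have h1 := card_lt_card_normalizerIn hS hQS (ne_of_isEssential hS hF hQ)
    have h2 : Nat.card (normalizerIn S Q) ≤ Nat.card Q :=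
      Nat.card_le_card_of_injective _ (Subgroup.inclusion_injective (hcon : normalizerIn S Q ≤ Q))
    omega
  obtain ⟨β, hβ⟩ := exists_conjAut hgN.2
  have hβS : β ∈ autInducedBy S Q := (mem_autInducedBy_iff S Q β).2 ⟨g, hgN.1, hβ⟩
  obtain ⟨c, hc⟩ := hfr.aut β hβS
  have hβx : barHom Q β (x : Q ⧸ frattini Q) = x := by
    rw [hc]
    exact (congr_up_apply e hfr.ex hfr.ey c).1
  have hβB2 : ∀ q ∈ B2, β q ∈ B2 := by
    intro q hq
    rw [hB2mem] at hq ⊢
    obtain ⟨k, hk⟩ := hq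
    have hk' : (x : Q ⧸ frattini Q) ^ k = q := hk
    rw [← barHom_mk, ← hk', map_zpow, hβx]
    exact ⟨k, rfl⟩
  -- `D2` is normalized by `Q` and `g`
  have hQN : Q ≤ normalizerIn S D2 := by
    intro q hq
    refine ⟨hQS hq, ?_⟩
    have key : ∀ q : Q, ∀ z ∈ D2, (q : Ω) * z * (q : Ω)⁻¹ ∈ D2 := by
      rintro q _ ⟨b, hb, rfl⟩
      exact ⟨q * b * q⁻¹, hB2n.conj_mem b hb q, rfl⟩
    refine Subgroup.mem_normalizer_iff.2 fun z => ⟨key ⟨q, hq⟩ z, fun hz => ?_⟩
    have h1 := key (⟨q, hq⟩⁻¹ : Q) _ hz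
    have h2 : ((⟨q, hq⟩⁻¹ : Q) : Ω) * (q * z * q⁻¹) * ((⟨q, hq⟩⁻¹ : Q) : Ω)⁻¹ = z := by
      show q⁻¹ * (q * z * q⁻¹) * q⁻¹⁻¹ = z
      group
    rwa [h2] at h1
  have hgN2 : g ∈ normalizerIn S D2 := by
    refine ⟨hgN.1, ?_⟩
    have key : ∀ z ∈ D2, g * z * g⁻¹ ∈ D2 := by
      rintro _ ⟨b, hb, rfl⟩
      refine ⟨β b, hβB2 b hb, hβ b⟩
    have hD2fin : Finite D2 := finite_of_le (hD2Q.trans hQS)
    have hle : D2.map (MulAut.conj g).toMonoidHom ≤ D2 := by
      rintro _ ⟨z, hz, rfl⟩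
      exact key z hz
    have hcard : Nat.card (D2.map (MulAut.conj g).toMonoidHom) = Nat.card D2 :=
      Nat.card_congr (D2.equivMapOfInjective _ (MulAut.conj g).injective).symm.toEquiv
    have heq : D2.map (MulAut.conj g).toMonoidHom = D2 :=
      Subgroup.eq_of_le_of_card_ge hle hcard.ge
    refine Subgroup.mem_normalizer_iff.2 fun z => ⟨key z, fun hz => ?_⟩
    have hz' : g * z * g⁻¹ ∈ D2.map (MulAut.conj g).toMonoidHom := by
      rw [heq]
      exact hz
    obtain ⟨w, hw, hwe⟩ := hz'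
    have : g * w * g⁻¹ = g * z * g⁻¹ := hwe
    have hwz : w = z := mul_left_cancel (mul_right_cancel this)
    rw [← hwz]
    exact hw
  -- `E'` is conjugate to `D2`
  have hΦle : ∀ B : Subgroup Q, B.index = p → frattini Q ≤ B := by
    intro B hB
    apply frattini_le_coatom
    refine ⟨fun h => ?_, fun K hK => ?_⟩
    · rw [h, Subgroup.index_top] at hB
      exact hp.out.one_lt.ne hB
    · have h1 := Subgroup.relIndex_mul_index hK.le
      rw [hB] at h1
      have h2 : K.index ∣ p := ⟨_, by rw [← h1, mul_comm]⟩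
      rcases (Nat.dvd_prime hp.out).1 h2 with h3 | h3
      · exact Subgroup.index_eq_one.1 h3
      · exfalso
        rw [h3] at h1
        have h4 := Nat.eq_of_mul_eq_mul_right hp.out.pos (by rw [h1, one_mul] :
          B.relIndex K * p = 1 * p)
        exact hK.not_ge (Subgroup.relIndex_eq_one.1 h4)
  have hBc : Nat.card (E'.subgroupOf Q) = p ^ 2 := by
    rw [Nat.card_congr (Subgroup.subgroupOfEquivOfLe hE'Q).toEquiv, ← isConj_card_eq hEE', hE2]
  have hBidx : (E'.subgroupOf Q).index = p := by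
    have h3 := Subgroup.card_mul_index (E'.subgroupOf Q)
    rw [hBc, hm] at h3
    exact Nat.eq_of_mul_eq_mul_left (pow_pos hp.out.pos 2) (by rw [h3]; ring)
  obtain ⟨b, hb, hbΦ⟩ : ∃ b ∈ E'.subgroupOf Q, b ∉ frattini Q := by
    by_contra hcon
    push Not at hcon
    have h1 : Nat.card (E'.subgroupOf Q) ≤ Nat.card (frattini Q) :=
      Nat.card_le_card_of_injective _ (Subgroup.inclusion_injective (hcon : E'.subgroupOf Q ≤ _))
    rw [hBc, hΦ.1] at h1
    have := hp.out.one_lt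
    nlinarith
  obtain ⟨α, hα, hαb⟩ := hfr.trans hbΦ hxΦ
  have hαB : (E'.subgroupOf Q).map α.toMonoidHom = B2 := by
    symm
    have hcα : Nat.card ((E'.subgroupOf Q).map α.toMonoidHom) = p ^ 2 := by
      rw [← hBc]
      exact Nat.card_congr ((E'.subgroupOf Q).equivMapOfInjective _ α.injective).symm.toEquiv
    have hαidx : ((E'.subgroupOf Q).map α.toMonoidHom).index = p := by
      have h3 := Subgroup.card_mul_index ((E'.subgroupOf Q).map α.toMonoidHom)
      rw [hcα, hm] at h3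
      exact Nat.eq_of_mul_eq_mul_left (pow_pos hp.out.pos 2) (by rw [h3]; ring)
    have hΦ2 := hΦle _ hαidx
    apply Subgroup.eq_of_le_of_card_ge
    · intro q hq
      rw [hB2mem] at hq
      obtain ⟨k, hk⟩ := hq
      have hk' : (x : Q ⧸ frattini Q) ^ k = q := hk
      rw [← hαb, ← QuotientGroup.mk_zpow, QuotientGroup.eq] at hk'
      have h1 := ((E'.subgroupOf Q).map α.toMonoidHom).mul_mem
        (((E'.subgroupOf Q).map α.toMonoidHom).zpow_mem (⟨b, hb, rfl⟩ :
          α b ∈ (E'.subgroupOf Q).map α.toMonoidHom) k) (hΦ2 hk')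
      rwa [mul_inv_cancel_left] at h1
    · rw [hB2card, hcα]
  have hE'D2 : F.IsConj E' D2 := by
    refine ⟨(Q.subtype.comp α.toMonoidHom).comp (Subgroup.inclusion hE'Q),
      restrict_mem ((mem_autGroup_iff F hQS α).1 hα) hE'Q, ?_⟩
    ext z
    constructor
    · rintro ⟨w, rfl⟩
      refine ⟨α ⟨w, hE'Q w.2⟩, ?_, rfl⟩
      have h1 : α ⟨w, hE'Q w.2⟩ ∈ (E'.subgroupOf Q).map α.toMonoidHom := ⟨⟨w, hE'Q w.2⟩, w.2, rfl⟩
      rw [hαB] at h1
      exact h1
    · rintro ⟨q, hq, rfl⟩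
      have h1 : q ∈ B2 := hq
      rw [← hαB] at h1
      obtain ⟨w, hw, rfl⟩ := h1
      exact ⟨⟨w, hw⟩, rfl⟩
  have hle := hE.ess.2.1.2 D2 (isConj_trans hEE' hE'D2)
  -- contradiction
  have hlt2 : Nat.card Q < Nat.card (normalizerIn S D2) := by
    have hfin2 : Finite (normalizerIn S D2) := finite_of_le inf_le_left
    have h1 : Nat.card Q ≤ Nat.card (normalizerIn S D2) :=
      Nat.card_le_card_of_injective _ (Subgroup.inclusion_injective hQN)
    refine lt_of_le_of_ne h1 fun h => ?_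
    have h2 := Subgroup.eq_of_le_of_card_ge hQN h.ge
    rw [← h2] at hgN2
    exact hgQ hgN2
  rw [hm] at hlt2
  rw [hj] at hle
  omega

end Cfsg.Agent.H766
end

-- part: H766/PearlTorus
section
/-!
# Pearls: lifting the normalizer of `Aut_S(E)` to `Aut_F(S)` (helper766)
-/

set_option autoImplicit false

namespace Cfsg.Agent.H766

open Cfsg Cfsg.FusionSystem Cfsg.Agent.H802
open Matrix (SpecialLinearGroup)
open Cfsg.Agent.ClassicalGeometry.SplitTorus (up lo dg dg_conj_up)
open scoped commutatorElement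

variable {Ω : Type*} [Group Ω] {S : Subgroup Ω}

/-- Elements of `Aut_F(E)` normalizing `Aut_S(E)` extend to `S` (`E` a pearl). -/
theorem pearl_lift {p : ℕ} [hp : Fact p.Prime] [Finite S] (hS : IsPGroup p S)
    {F : FusionSystem S} (hF : F.IsSaturated p) {E : Subgroup Ω} (hE : IsPearl F p E)
    {φ : MulAut E} (hφ : φ ∈ F.autGroup E)
    (hn : ∀ β ∈ autInducedBy S E, φ * β * φ⁻¹ ∈ autInducedBy S E) :
    ∃ σ ∈ F.autGroup S, ∀ (x : E) (hx : (x : Ω) ∈ S), ((σ ⟨x, hx⟩ : S) : Ω) = (φ x : E) := by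
  have hES := ess_le hE.ess
  have hφ' : E.subtype.comp φ.toMonoidHom ∈ F.Hom E := (mem_autGroup_iff F hES φ).1 hφ
  have hrange : (E.subtype.comp φ.toMonoidHom).range = E := by
    ext z
    constructor
    · rintro ⟨x, rfl⟩
      exact (φ x).2
    · intro hz
      exact ⟨φ.symm ⟨z, hz⟩, by simp⟩
  have hext : extender S E (E.subtype.comp φ.toMonoidHom) = normalizerIn S E := by
    apply le_antisymm (extender_le_normalizerIn _ _ _)
    intro g hg
    rw [mem_extender_iff]
    refine ⟨hg.1, hg.2, ?_⟩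
    obtain ⟨β, hβ⟩ := exists_conjAut hg.2
    obtain ⟨h, hh, hhe⟩ := (mem_autInducedBy_iff S E _).1
      (hn β ((mem_autInducedBy_iff S E β).2 ⟨g, hg.1, hβ⟩))
    refine ⟨h, hh, fun x hx => ?_⟩
    have h1 := hhe (φ x)
    rw [MulAut.mul_apply, MulAut.mul_apply, MulAut.inv_apply_self] at h1
    have h2 : (⟨g * x * g⁻¹, hx⟩ : E) = β x := Subtype.ext (hβ x).symm
    show ((φ (⟨g * x * g⁻¹, hx⟩ : E) : E) : Ω) = h * ((φ x : E) : Ω) * h⁻¹
    rw [h2]
    exact h1
  obtain ⟨ψ, hψ, hψe⟩ := (isReceptive_of_isFullyNormalized hS hF hE.ess.2.1).2 E _ hφ' hrange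
  have hNle : normalizerIn S E ≤ extender S E (E.subtype.comp φ.toMonoidHom) := hext.ge
  obtain ⟨σ, hσ, hσe⟩ := exists_ext_of_no_essential hS hF (normalizerIn S E)
    (fun Q hQ D' hD' => pearl_normalizer_not_le hS hF hE Q hQ D' hD') hψ hNle
    (isConj_refl F inf_le_left)
  refine ⟨σ, hσ, fun x hx => ?_⟩
  have hxN : (x : Ω) ∈ extender S E (E.subtype.comp φ.toMonoidHom) :=
    hNle (le_normalizerIn hES x.2)
  have h1 := hσe ⟨x, hxN⟩ hx
  rw [← h1]
  exact hψe x x.2 hxN

/-- The Frattini subgroup of a pearl has index `p²`. -/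
theorem pearl_frattini_index {p : ℕ} [hp : Fact p.Prime] [Finite S] (hS : IsPGroup p S)
    {F : FusionSystem S} {E : Subgroup Ω} (hE : IsPearl F p E) : (frattini E).index = p ^ 2 := by
  have hES := ess_le hE.ess
  have : Finite E := finite_of_le hES
  have hEp : IsPGroup p E := hS.to_le hES
  rcases hE.shape with h | ⟨h, hna⟩
  · have h1 := ess_frattini_eq_bot_of_card_sq hS hE.ess h
    rw [h1, Subgroup.index_bot, h]
  · rcases ess_frattini_card_of_card_cube hS hE.ess h with h1 | h1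
    · exfalso
      apply hna
      exact ⟨⟨(mul_comm_of_frattini_eq_bot hEp h1).1⟩⟩
    · exact h1.2

/-- The torus of a pearl extends to `S`: `σ` acts on `E / Φ(E)` as `diag(t, t⁻¹)`. -/
theorem pearl_torus {p : ℕ} [hp : Fact p.Prime] [Finite S] (hS : IsPGroup p S)
    {F : FusionSystem S} (hF : F.IsSaturated p) {E : Subgroup Ω} (hE : IsPearl F p E)
    {x y : E} {e : (E ⧸ frattini E) ≃* Multiplicative (Fin 2 → ZMod p)} (hfr : Frame F p E x y e)
    (t : (ZMod p)ˣ) :
    ∃ σ ∈ F.autGroup S, ∃ δ ∈ F.autGroup E,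
      (∀ (x : E) (hx : (x : Ω) ∈ S), ((σ ⟨x, hx⟩ : S) : Ω) = (δ x : E)) ∧
      barHom E δ = MulAut.congr e.symm (planeAct p (dg t)) := by
  obtain ⟨δ, hδ, hδe⟩ := hfr.sl (dg t)
  obtain ⟨σ, hσ, hσe⟩ := pearl_lift hS hF hE hδ (by
    intro β hβ
    obtain ⟨c, hc⟩ := hfr.aut β hβ
    apply hfr.aut' _ ((F.autGroup E).mul_mem ((F.autGroup E).mul_mem hδ
      (autInducedBy_le_autGroup F (ess_le hE.ess) hβ)) ((F.autGroup E).inv_mem hδ))
      ((t : ZMod p) * (t : ZMod p) * c)
    rw [map_mul, map_mul, map_inv, hδe, hc, ← map_mul, ← map_mul, ← map_inv, ← map_inv, ← map_mul,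
      ← map_mul]
    congr 2
    have := dg_conj_up t c
    first
      | exact this
      | (rw [this]; congr 1; ring))
  exact ⟨σ, hσ, δ, hδ, hσe, hδe⟩

end Cfsg.Agent.H766
end
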