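import Cfsg.Agent.H766.FiveSix
set_option linter.all false

/-!
# Pearls in sectional rank three (helper766)
-/

set_option autoImplicit false

namespace Cfsg.Agent.H766

open Cfsg Cfsg.FusionSystem Cfsg.Agent.H802
open Cfsg.Agent.H467.MaxClass
open Matrix (SpecialLinearGroup)
open Cfsg.Agent.ClassicalGeometry.SplitTorus (up lo dg dg_conj_up)
open scoped commutatorElement

variable {Ω : Type*} [Group Ω] {S : Subgroup Ω}

/-- The lifted torus, with its weights. -/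
theorem pearl_sigma {p : ℕ} [hp : Fact p.Prime] [Finite S] (hS : IsPGroup p S)
    {F : FusionSystem S} (hF : F.IsSaturated p) {E : Subgroup Ω} (hE : IsPearl F p E)
    {n : ℕ} (hn : 4 ≤ n) (hcard : Nat.card S = p ^ n)
    {x y : E} {e : (E ⧸ frattini E) ≃* Multiplicative (Fin 2 → ZMod p)} (hfr : Frame F p E x y e)
    {m : ℕ} (hm : m < n) (hΦ : ∀ v ∈ frattini E, Subgroup.inclusion (ess_le hE.ess) v ∈ chain S (n - 1))
    (hx : Subgroup.inclusion (ess_le hE.ess) x ∈ chain S m)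
    (hx' : Subgroup.inclusion (ess_le hE.ess) x ∉ chain S (m + 1)) (hmn : m + 1 ≤ n - 1 ∨ frattini E = ⊥)
    (t : (ZMod p)ˣ) :
    ∃ σ ∈ F.autGroup S, ∃ δ ∈ F.autGroup E,
      (∀ v : E, σ (Subgroup.inclusion (ess_le hE.ess) v) = Subgroup.inclusion (ess_le hE.ess) (δ v)) ∧
      barHom E δ = MulAut.congr e.symm (planeAct p (dg t)) ∧
      (∃ z ∈ chain S (n - 1), σ (Subgroup.inclusion (ess_le hE.ess) y) =
        Subgroup.inclusion (ess_le hE.ess) y ^ ((t⁻¹ : (ZMod p)ˣ) : ZMod p).val * z) ∧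
      Wt (chain S) σ m (t : ZMod p) := by
  have h := pearl_mc hE hn hcard
  have hES := ess_le hE.ess
  set ι : E →* S := Subgroup.inclusion hES with hι
  obtain ⟨σ, hσ, δ, hδ, hσδ, hδe⟩ := pearl_torus hS hF hE hfr t
  have hσι : ∀ v : E, σ (ι v) = ι (δ v) := fun v => Subtype.ext (hσδ v (ι v).2)
  have hdg := congr_dg_apply e hfr.ex hfr.ey t
  have hδx : (x ^ (t : ZMod p).val)⁻¹ * δ x ∈ frattini E := by
    rw [← QuotientGroup.eq, QuotientGroup.mk_pow, ← hdg.1, ← hδe, barHom_mk]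
  have hδy : (y ^ ((t⁻¹ : (ZMod p)ˣ) : ZMod p).val)⁻¹ * δ y ∈ frattini E := by
    rw [← QuotientGroup.eq, QuotientGroup.mk_pow, ← hdg.2, ← hδe, barHom_mk]
  refine ⟨σ, hσ, δ, hδ, hσι, hδe, ⟨_, hΦ _ hδy, ?_⟩, ?_⟩
  · rw [hσι, ← map_pow, ← map_mul, mul_inv_cancel_left]
  · refine wt_of_gen h (chain_map_mem σ) hm hx hx' (k := ((t : ZMod p).val : ℤ)) ?_ ?_
    · push_cast
      rw [ZMod.natCast_zmod_val]
    · rw [zpow_natCast, hσι, ← map_pow, ← map_inv, ← map_mul]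
      rcases hmn with h1 | h1
      · exact h.antitone h1 (hΦ _ hδx)
      · rw [h1, Subgroup.mem_bot] at hδx
        rw [hδx, map_one]
        exact one_mem _

/-- Sectional rank three and `p ≥ 5`: `|S| = p⁴`, or `|S| = 7⁵` and the pearl is abelian. -/
theorem pearl_rank_three {p : ℕ} [hp : Fact p.Prime] [Finite S] (hS : IsPGroup p S) (hp5 : 5 ≤ p)
    {F : FusionSystem S} (hF : F.IsSaturated p) {E : Subgroup Ω} (hE : IsPearl F p E)
    {n : ℕ} (hn : 4 ≤ n) (hn6 : n ≤ 6) (hcard : Nat.card S = p ^ n)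
    (hr : Cfsg.SectionalPRankLE p 3 S) :
    n = 4 ∨ (n = 5 ∧ p = 7 ∧ Nat.card E = p ^ 2) := by
  obtain ⟨x, y, e, hfr⟩ := exists_frame hS hF hE.ess (pearl_frattini_index hS hE)
  have h := pearl_mc hE hn hcard
  have hcl := pearl_maxClass hE hcard
  obtain ⟨m, hm, hΦ, hx, hx', hy1, hyK⟩ := pearl_position hS hE hn hcard hfr
  have hmn : m < n := by rcases hm with ⟨-, h⟩ | ⟨-, h⟩ <;> omega
  have hmn' : m + 1 ≤ n - 1 ∨ frattini E = ⊥ := by
    rcases hm with ⟨h1, h⟩ | ⟨-, h⟩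
    · right
      exact ess_frattini_eq_bot_of_card_sq hS hE.ess h1
    · left; omega
  have hsig := pearl_sigma hS hF hE hn hcard hfr hmn hΦ hx hx' hmn'
  have ht : TorusAct h (Subgroup.inclusion (ess_le hE.ess) y) := by
    refine ⟨hy1, hyK, fun t => ?_⟩
    obtain ⟨σ, -, -, -, -, -, ⟨z, hz, hσ⟩, -⟩ := hsig t⁻¹
    rw [inv_inv] at hσ
    exact ⟨σ, z, hz, hσ⟩
  by_cases hn4 : n = 4
  · exact Or.inl hn4
  have hn5 : n = 5 := by
    by_contra hcon
    exact ht.ne_six hcl (by omega) hp5 hr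
  subst hn5
  right
  -- the weight equation
  have key : ∀ t : (ZMod p)ˣ, t ^ (m + 2) = 1 := by
    intro t
    obtain ⟨σ, -, -, -, -, -, ⟨z, hz, hσ⟩, hw⟩ := hsig t⁻¹
    rw [inv_inv] at hσ
    have hc := ht.c_eq hcl le_rfl (by omega) hp5 hr hz t.ne_zero hσ (m - 1)
      (by rcases hm with ⟨-, h⟩ | ⟨-, h⟩ <;> omega)
    have hm1 : 1 ≤ m := by rcases hm with ⟨-, h⟩ | ⟨-, h⟩ <;> omega
    rw [show m - 1 + 1 = m by omega] at hc
    have h1 := wt_unique h hmn hc hw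
    rw [show m - 1 + 2 = m + 1 by omega] at h1
    apply Units.ext
    rw [Units.val_pow_eq_pow_val, Units.val_one, pow_succ, h1, Units.inv_mul]
  have hdvd := pow_eq_one_forall key
  have hpodd := hp.out.eq_two_or_odd
  rcases hm with ⟨h1, h2⟩ | ⟨h1, h2⟩
  · refine ⟨rfl, ?_, h1⟩
    rw [h2] at hdvd
    have h3 := Nat.le_of_dvd (by omega) hdvd
    have h4 : p ≤ 7 := by omega
    interval_cases p
    · revert hdvd; decide
    · omega
    · rfl
  · exfalso
    rw [h2] at hdvd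
    have h3 := Nat.le_of_dvd (by omega) hdvd
    have h4 : p ≤ 6 := by omega
    interval_cases p
    · revert hdvd; decide
    · omega

end Cfsg.Agent.H766
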