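import Mathlib
import Cfsg.Agent.ClassicalGeometry.SplitTorus
set_option linter.all false

/-!
# Two non-commuting `p`-automorphisms of `C_p × C_p` generate `SL(2,p)` (helper766)
-/

set_option autoImplicit false

namespace Cfsg.Agent.H766

open Matrix Cfsg.Agent.ClassicalGeometry.SplitTorus

/-- The natural action of `SL(2,p)` on the multiplicative version of the plane. -/
def planeAct (p : ℕ) :
    SpecialLinearGroup (Fin 2) (ZMod p) →* MulAut (Multiplicative (Fin 2 → ZMod p)) where
  toFun g :=
    { toFun := fun v => Multiplicative.ofAdd (g.1.mulVec v.toAdd)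
      invFun := fun v => Multiplicative.ofAdd ((g⁻¹).1.mulVec v.toAdd)
      left_inv := fun v => by
        show Multiplicative.ofAdd ((g⁻¹).1.mulVec (g.1.mulVec v.toAdd)) = v
        rw [Matrix.mulVec_mulVec]
        have h : (g⁻¹).1 * g.1 = (1 : Matrix (Fin 2) (Fin 2) (ZMod p)) := by
          have h1 := congrArg Subtype.val (inv_mul_cancel g)
          exact h1
        rw [h, Matrix.one_mulVec]
        rfl
      right_inv := fun v => by
        show Multiplicative.ofAdd (g.1.mulVec ((g⁻¹).1.mulVec v.toAdd)) = v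
        rw [Matrix.mulVec_mulVec]
        have h : g.1 * (g⁻¹).1 = (1 : Matrix (Fin 2) (Fin 2) (ZMod p)) := by
          have h1 := congrArg Subtype.val (mul_inv_cancel g)
          exact h1
        rw [h, Matrix.one_mulVec]
        rfl
      map_mul' := fun v w => by
        show Multiplicative.ofAdd (g.1.mulVec (v.toAdd + w.toAdd)) = _
        rw [Matrix.mulVec_add]
        rfl }
  map_one' := by
    apply MulEquiv.ext
    intro v
    show Multiplicative.ofAdd ((1 : Matrix (Fin 2) (Fin 2) (ZMod p)).mulVec v.toAdd) = v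
    rw [Matrix.one_mulVec]
    rfl
  map_mul' g h := by
    apply MulEquiv.ext
    intro v
    show Multiplicative.ofAdd ((g.1 * h.1).mulVec v.toAdd) =
      Multiplicative.ofAdd (g.1.mulVec (h.1.mulVec v.toAdd))
    rw [Matrix.mulVec_mulVec]

theorem planeAct_apply (p : ℕ) (g : SpecialLinearGroup (Fin 2) (ZMod p))
    (v : Multiplicative (Fin 2 → ZMod p)) :
    planeAct p g v = Multiplicative.ofAdd (g.1.mulVec v.toAdd) := rfl

theorem planeAct_injective (p : ℕ) : Function.Injective (planeAct p) := by
  intro g h hgh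
  apply Subtype.ext
  have h1 : ∀ v : Fin 2 → ZMod p, g.1.mulVec v = h.1.mulVec v := by
    intro v
    have h2 := DFunLike.congr_fun hgh (Multiplicative.ofAdd v)
    rw [planeAct_apply, planeAct_apply] at h2
    exact Multiplicative.ofAdd.injective h2
  exact Matrix.ext_of_mulVec_single (fun i => h1 _)

/-- Coordinates on a plane adapted to two independent vectors. -/
theorem exists_linear_coords {M : Type*} [AddCommGroup M] {p : ℕ} [hp : Fact p.Prime]
    [Module (ZMod p) M] (hcard : Nat.card M = p ^ 2) {x y : M} (hx : x ≠ 0)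
    (hy : ∀ c : ZMod p, y ≠ c • x) :
    ∃ e : M ≃ₗ[ZMod p] (Fin 2 → ZMod p), e x = ![1, 0] ∧ e y = ![0, 1] := by
  have hVf : Finite M := Nat.finite_of_card_ne_zero (by rw [hcard]; exact (pow_pos hp.out.pos 2).ne')
  have hmf : Module.Finite (ZMod p) M := Module.Finite.of_finite
  have hfr : Module.finrank (ZMod p) M = 2 := by
    have h1 := Module.natCard_eq_pow_finrank (K := ZMod p) (V := M)
    rw [Nat.card_zmod, hcard] at h1
    exact (Nat.pow_right_injective hp.out.two_le h1).symm
  have hli : LinearIndependent (ZMod p) ![x, y] := by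
    rw [LinearIndependent.pair_iff]
    intro s t hst
    have ht : t = 0 := by
      by_contra ht
      apply hy (-(t⁻¹ * s))
      have h2 : t⁻¹ • (s • x + t • y) = 0 := by rw [hst, smul_zero]
      rw [smul_add, smul_smul, smul_smul, inv_mul_cancel₀ ht, one_smul] at h2
      rw [neg_smul]
      exact eq_neg_of_add_eq_zero_right h2
    subst ht
    refine ⟨?_, rfl⟩
    rw [zero_smul, add_zero] at hst
    by_contra hs
    apply hx
    have h2 : s⁻¹ • (s • x) = 0 := by rw [hst, smul_zero]
    rwa [smul_smul, inv_mul_cancel₀ hs, one_smul] at h2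
  let b : Module.Basis (Fin 2) (ZMod p) M :=
    basisOfLinearIndependentOfCardEqFinrank hli (by rw [hfr]; rfl)
  have hb0 : b 0 = x := by simp [b]
  have hb1 : b 1 = y := by simp [b]
  refine ⟨b.equivFun, ?_, ?_⟩
  · rw [← hb0]
    ext i
    rw [b.equivFun_self]
    fin_cases i <;> simp
  · rw [← hb1]
    ext i
    rw [b.equivFun_self]
    fin_cases i <;> simp

/-- Coordinates on a commutative group of exponent `p` and order `p²` adapted to two elements, the
second not a power of the first. -/
theorem exists_coords {V : Type*} [CommGroup V] {p : ℕ} [hp : Fact p.Prime]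
    (hexp : ∀ v : V, v ^ p = 1) (hcard : Nat.card V = p ^ 2) {x y : V} (hx : x ≠ 1)
    (hy : y ∉ Subgroup.zpowers x) :
    ∃ e : V ≃* Multiplicative (Fin 2 → ZMod p),
      e x = Multiplicative.ofAdd ![1, 0] ∧ e y = Multiplicative.ofAdd ![0, 1] := by
  obtain ⟨mo⟩ : Nonempty (Module (ZMod p) (Additive V)) :=
    ⟨AddCommGroup.zmodModule (n := p) (fun v => by
      show Additive.ofMul (v.toMul ^ p) = 0
      rw [hexp]
      rfl)⟩
  have key : ∀ (s : ZMod p) (v : V), s • Additive.ofMul v = Additive.ofMul (v ^ s.val) := by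
    intro s v
    conv_lhs => rw [← ZMod.natCast_zmod_val s]
    rw [Nat.cast_smul_eq_nsmul]
    rfl
  obtain ⟨e, he1, he2⟩ := exists_linear_coords (M := Additive V) (p := p) hcard
    (x := Additive.ofMul x) (y := Additive.ofMul y) (fun h => hx (Additive.ofMul.injective h))
    (by
      intro c hc
      rw [key] at hc
      have h3 : y = x ^ c.val := Additive.ofMul.injective hc
      apply hy
      rw [h3]
      exact Subgroup.npow_mem_zpowers _ _)
  refine ⟨{ toFun := fun v => Multiplicative.ofAdd (e (Additive.ofMul v))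
            invFun := fun v => (e.symm v.toAdd).toMul
            left_inv := fun v => by simp
            right_inv := fun v => by simp
            map_mul' := fun v w => by
              show Multiplicative.ofAdd (e (Additive.ofMul v + Additive.ofMul w)) = _
              rw [map_add]
              rfl }, ?_, ?_⟩
  · show Multiplicative.ofAdd (e (Additive.ofMul x)) = _
    rw [he1]
  · show Multiplicative.ofAdd (e (Additive.ofMul y)) = _
    rw [he2]

/-- A `p`-automorphism acts trivially on an invariant section of order at most `p`. -/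
theorem pAut_trivial_section {V : Type*} [Group V] {p : ℕ} [hp : Fact p.Prime] [Finite V]
    (α : MulAut V) {k : ℕ} (hα : α ^ p ^ k = 1) {L K : Subgroup V}
    (hL : ∀ x ∈ L, α x ∈ L) (hK : ∀ x ∈ K, α x ∈ K)
    (hidx : L.relIndex K = 1 ∨ L.relIndex K = p) : ∀ x ∈ K, x⁻¹ * α x ∈ L := by
  rcases hidx with h1 | h1
  · intro x hx
    have hKL : K ≤ L := Subgroup.relIndex_eq_one.1 h1
    exact hKL (K.mul_mem (K.inv_mem hx) (hK x hx))
  -- the group generated by `α` acts on the cosets of `L` in `K`
  have hαK : ∀ (n : ℕ), ∀ x ∈ K, (α ^ n) x ∈ K := by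
    intro n
    induction n with
    | zero => intro x hx; simpa using hx
    | succ n ih =>
      intro x hx
      rw [pow_succ', MulAut.mul_apply]
      exact hK _ (ih x hx)
  have hαL : ∀ (n : ℕ), ∀ x ∈ L, (α ^ n) x ∈ L := by
    intro n
    induction n with
    | zero => intro x hx; simpa using hx
    | succ n ih =>
      intro x hx
      rw [pow_succ', MulAut.mul_apply]
      exact hL _ (ih x hx)
  have hzK : ∀ (g : Subgroup.zpowers α), ∀ x ∈ K, (g : MulAut V) x ∈ K := by
    rintro ⟨g, hg⟩ x hx
    obtain ⟨n, rfl⟩ := (mem_powers_iff_mem_zpowers (x := α)).2 hg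
    exact hαK n x hx
  have hzL : ∀ (g : Subgroup.zpowers α), ∀ x ∈ L, (g : MulAut V) x ∈ L := by
    rintro ⟨g, hg⟩ x hx
    obtain ⟨n, rfl⟩ := (mem_powers_iff_mem_zpowers (x := α)).2 hg
    exact hαL n x hx
  let C := K ⧸ (L.subgroupOf K)
  have hmap : ∀ (g : Subgroup.zpowers α) (x y : K), QuotientGroup.leftRel (L.subgroupOf K) x y →
      QuotientGroup.leftRel (L.subgroupOf K) (⟨(g : MulAut V) x, hzK g x x.2⟩ : K)
        ⟨(g : MulAut V) y, hzK g y y.2⟩ := by
    intro g x y hxy
    rw [QuotientGroup.leftRel_apply] at hxy ⊢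
    rw [Subgroup.mem_subgroupOf] at hxy ⊢
    have := hzL g _ hxy
    simpa using this
  let act : MulAction (Subgroup.zpowers α) C :=
    { smul := fun g => Quotient.map' (s₁ := QuotientGroup.leftRel (L.subgroupOf K))
        (s₂ := QuotientGroup.leftRel (L.subgroupOf K))
        (fun x => (⟨(g : MulAut V) x, hzK g x x.2⟩ : K)) (hmap g)
      one_smul := by
        intro c
        induction c using QuotientGroup.induction_on with
        | H x => rfl
      mul_smul := by
        intro g h c
        induction c using QuotientGroup.induction_on with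
        | H x => rfl }
  have hsmul : ∀ (g : Subgroup.zpowers α) (x : K),
      g • ((x : K ⧸ (L.subgroupOf K)) : C) = ((⟨(g : MulAut V) x, hzK g x x.2⟩ : K) :
        K ⧸ (L.subgroupOf K)) := fun g x => rfl
  have hpz : IsPGroup p (Subgroup.zpowers α) := by
    rintro ⟨g, hg⟩
    obtain ⟨n, rfl⟩ := (mem_powers_iff_mem_zpowers (x := α)).2 hg
    refine ⟨k, ?_⟩
    apply Subtype.ext
    show (α ^ n) ^ p ^ k = 1
    rw [← pow_mul, mul_comm, pow_mul, hα, one_pow]
  have hCcard : Nat.card C = p := h1
  have hCfin : Finite C := inferInstance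
  have hmod := hpz.card_modEq_card_fixedPoints C
  rw [hCcard] at hmod
  have h0 : Nat.card (MulAction.fixedPoints (Subgroup.zpowers α) C) ≡ 0 [MOD p] := by
    refine hmod.symm.trans ?_
    exact (Nat.modEq_zero_iff_dvd.2 dvd_rfl)
  have hone : (((1 : K) : K ⧸ (L.subgroupOf K)) : C) ∈
      MulAction.fixedPoints (Subgroup.zpowers α) C := by
    intro g
    rw [hsmul]
    congr 1
    apply Subtype.ext
    show (g : MulAut V) ((1 : K) : V) = 1
    simp
  have hpos : 0 < Nat.card (MulAction.fixedPoints (Subgroup.zpowers α) C) := by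
    have : Nonempty (MulAction.fixedPoints (Subgroup.zpowers α) C) := ⟨⟨_, hone⟩⟩
    exact Nat.card_pos
  have hge : p ≤ Nat.card (MulAction.fixedPoints (Subgroup.zpowers α) C) :=
    Nat.le_of_dvd hpos ((Nat.modEq_zero_iff_dvd).1 h0)
  have hall : MulAction.fixedPoints (Subgroup.zpowers α) C = Set.univ := by
    apply Set.eq_univ_of_forall
    intro c
    by_contra hc
    have h5 : Nat.card (MulAction.fixedPoints (Subgroup.zpowers α) C) < Nat.card C := by
      have h6 : (MulAction.fixedPoints (Subgroup.zpowers α) C).ncard < (Set.univ : Set C).ncard := by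
        apply Set.ncard_lt_ncard _ (Set.toFinite _)
        refine ⟨Set.subset_univ _, fun h => hc (h (Set.mem_univ c))⟩
      rw [Set.ncard_univ] at h6
      exact h6
    rw [hCcard] at h5
    omega
  intro x hx
  have h2 : (((⟨x, hx⟩ : K) : K ⧸ (L.subgroupOf K)) : C) ∈
      MulAction.fixedPoints (Subgroup.zpowers α) C := by
    rw [hall]
    trivial
  have h3 := h2 ⟨α, Subgroup.mem_zpowers α⟩
  rw [hsmul] at h3
  have h4 := QuotientGroup.eq.1 h3.symm
  rw [Subgroup.mem_subgroupOf] at h4
  exact h4


/-- Fixed points of a nontrivial `p`-automorphism on a plane. -/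
theorem exists_fixed {V : Type*} [Group V] {p : ℕ} [hp : Fact p.Prime] [Finite V]
    (hV : IsPGroup p V) (hV1 : Nat.card V ≠ 1)
    (α : MulAut V) {k : ℕ} (hα : α ^ p ^ k = 1) : ∃ x : V, x ≠ 1 ∧ α x = x := by
  have hpz : IsPGroup p (Subgroup.zpowers α) := by
    rintro ⟨g, hg⟩
    obtain ⟨n, rfl⟩ := (mem_powers_iff_mem_zpowers (x := α)).2 hg
    refine ⟨k, ?_⟩
    apply Subtype.ext
    show (α ^ n) ^ p ^ k = 1
    rw [← pow_mul, mul_comm, pow_mul, hα, one_pow]
  have hmod := hpz.card_modEq_card_fixedPoints V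
  obtain ⟨n, hn⟩ := IsPGroup.iff_card.1 hV
  have hn0 : n ≠ 0 := by
    rintro rfl
    exact hV1 (by rw [hn, pow_zero])
  have h0 : Nat.card (MulAction.fixedPoints (Subgroup.zpowers α) V) ≡ 0 [MOD p] := by
    refine hmod.symm.trans ?_
    rw [hn]
    exact (Nat.modEq_zero_iff_dvd.2 (dvd_pow_self p hn0))
  have hone : (1 : V) ∈ MulAction.fixedPoints (Subgroup.zpowers α) V := by
    intro g
    show (g : MulAut V) 1 = 1
    simp
  have hpos : 0 < Nat.card (MulAction.fixedPoints (Subgroup.zpowers α) V) := by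
    have : Nonempty (MulAction.fixedPoints (Subgroup.zpowers α) V) := ⟨⟨_, hone⟩⟩
    exact Nat.card_pos
  have hge : p ≤ Nat.card (MulAction.fixedPoints (Subgroup.zpowers α) V) :=
    Nat.le_of_dvd hpos ((Nat.modEq_zero_iff_dvd).1 h0)
  by_contra hcon
  push Not at hcon
  have hsub : (MulAction.fixedPoints (Subgroup.zpowers α) V) ⊆ {1} := by
    intro x hx
    by_contra hx1
    exact hcon x hx1 (hx ⟨α, Subgroup.mem_zpowers α⟩)
  have h5 : (MulAction.fixedPoints (Subgroup.zpowers α) V).ncard ≤ ({1} : Set V).ncard :=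
    Set.ncard_le_ncard hsub
  rw [Set.ncard_singleton] at h5
  have h6 : Nat.card (MulAction.fixedPoints (Subgroup.zpowers α) V) =
    (MulAction.fixedPoints (Subgroup.zpowers α) V).ncard := rfl
  rw [h6] at hge
  have := hp.out.two_le
  omega

theorem eq_pow_mul_pow {V : Type*} [CommGroup V] {p : ℕ} [hp : Fact p.Prime] {x y : V}
    (e : V ≃* Multiplicative (Fin 2 → ZMod p)) (he1 : e x = Multiplicative.ofAdd ![1, 0])
    (he2 : e y = Multiplicative.ofAdd ![0, 1]) (v : V) :
    v = x ^ ((e v).toAdd 0).val * y ^ ((e v).toAdd 1).val := by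
  apply e.injective
  rw [map_mul, map_pow, map_pow, he1, he2]
  apply Multiplicative.toAdd.injective
  rw [toAdd_mul, toAdd_pow, toAdd_pow]
  ext i
  fin_cases i
  · show (e v).toAdd 0 = (((e v).toAdd 0).val • (![1, 0] : Fin 2 → ZMod p) +
      ((e v).toAdd 1).val • (![0, 1] : Fin 2 → ZMod p)) 0
    simp
  · show (e v).toAdd 1 = (((e v).toAdd 0).val • (![1, 0] : Fin 2 → ZMod p) +
      ((e v).toAdd 1).val • (![0, 1] : Fin 2 → ZMod p)) 1
    simp

theorem aut_ext_coords {V : Type*} [CommGroup V] {p : ℕ} [hp : Fact p.Prime] {x y : V}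
    (e : V ≃* Multiplicative (Fin 2 → ZMod p)) (he1 : e x = Multiplicative.ofAdd ![1, 0])
    (he2 : e y = Multiplicative.ofAdd ![0, 1]) {α β : MulAut V} (h1 : α x = β x)
    (h2 : α y = β y) : α = β := by
  apply MulEquiv.ext
  intro v
  rw [eq_pow_mul_pow e he1 he2 v, map_mul, map_mul, map_pow, map_pow, map_pow, map_pow, h1, h2]

/-- The action of `SL(2,p)` in coordinates. -/
theorem congr_planeAct_apply {V : Type*} [CommGroup V] {p : ℕ} [hp : Fact p.Prime] {x y : V}
    (e : V ≃* Multiplicative (Fin 2 → ZMod p)) (he1 : e x = Multiplicative.ofAdd ![1, 0])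
    (he2 : e y = Multiplicative.ofAdd ![0, 1]) (g : SpecialLinearGroup (Fin 2) (ZMod p)) :
    MulAut.congr e.symm (planeAct p g) x = x ^ (g.1 0 0).val * y ^ (g.1 1 0).val ∧
      MulAut.congr e.symm (planeAct p g) y = x ^ (g.1 0 1).val * y ^ (g.1 1 1).val := by
  constructor
  · apply e.injective
    show e (e.symm (planeAct p g (e x))) = _
    rw [MulEquiv.apply_symm_apply, map_mul, map_pow, map_pow, he1, he2, planeAct_apply]
    apply Multiplicative.toAdd.injective
    rw [toAdd_mul, toAdd_pow, toAdd_pow]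
    ext i
    show (g.1 *ᵥ ![1, 0]) i = ((g.1 0 0).val • (![1, 0] : Fin 2 → ZMod p) +
      (g.1 1 0).val • (![0, 1] : Fin 2 → ZMod p)) i
    fin_cases i <;> simp [Matrix.mulVec, dotProduct, Fin.sum_univ_two]
  · apply e.injective
    show e (e.symm (planeAct p g (e y))) = _
    rw [MulEquiv.apply_symm_apply, map_mul, map_pow, map_pow, he1, he2, planeAct_apply]
    apply Multiplicative.toAdd.injective
    rw [toAdd_mul, toAdd_pow, toAdd_pow]
    ext i
    show (g.1 *ᵥ ![0, 1]) i = ((g.1 0 1).val • (![1, 0] : Fin 2 → ZMod p) +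
      (g.1 1 1).val • (![0, 1] : Fin 2 → ZMod p)) i
    fin_cases i <;> simp [Matrix.mulVec, dotProduct, Fin.sum_univ_two]

/-- **Two non-commuting `p`-automorphisms of `C_p × C_p` generate `SL(2,p)`**: there are independent
`x`, `y`, fixed by `a`, `b`, such that the group generated by `a` and `b` contains, in the coordinates
given by `x`, `y`, all of `SL(2,p)`. -/
theorem exists_SL_two {V : Type*} [CommGroup V] {p : ℕ} [hp : Fact p.Prime]
    (hexp : ∀ v : V, v ^ p = 1) (hcard : Nat.card V = p ^ 2) (A : Subgroup (MulAut V))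
    {a b : MulAut V} (ha : a ∈ A) (hb : b ∈ A) {k l : ℕ} (hak : a ^ p ^ k = 1)
    (hbl : b ^ p ^ l = 1) (hab : a * b ≠ b * a) :
    ∃ (x y : V) (e : V ≃* Multiplicative (Fin 2 → ZMod p)), a x = x ∧ b y = y ∧
      e x = Multiplicative.ofAdd ![1, 0] ∧ e y = Multiplicative.ofAdd ![0, 1] ∧
      ∀ g : SpecialLinearGroup (Fin 2) (ZMod p), MulAut.congr e.symm (planeAct p g) ∈ A := by
  have hVf : Finite V := Nat.finite_of_card_ne_zero (by rw [hcard]; exact (pow_pos hp.out.pos 2).ne')
  have hVp : IsPGroup p V := fun v => ⟨1, by rw [pow_one]; exact hexp v⟩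
  have hV1 : Nat.card V ≠ 1 := by
    rw [hcard]
    exact (Nat.one_lt_pow two_ne_zero hp.out.one_lt).ne'
  obtain ⟨x, hx1, hax⟩ := exists_fixed hVp hV1 a hak
  obtain ⟨y, hy1, hby⟩ := exists_fixed hVp hV1 b hbl
  -- the quotient by the group of fixed points
  have hidx : ∀ z : V, z ≠ 1 → (Subgroup.zpowers z).relIndex ⊤ = p := by
    intro z hz
    rw [Subgroup.relIndex_top_right]
    have h1 : orderOf z = p := orderOf_eq_prime (hexp z) hz
    have h2 : Nat.card (Subgroup.zpowers z) = p := by rw [Nat.card_zpowers, h1]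
    have h3 := Subgroup.card_mul_index (Subgroup.zpowers z)
    rw [h2, hcard, sq] at h3
    exact Nat.eq_of_mul_eq_mul_left hp.out.pos h3
  have hact : ∀ (c : MulAut V) (z : V) (m : ℕ), z ≠ 1 → c ^ p ^ m = 1 → c z = z →
      ∀ v : V, v⁻¹ * c v ∈ Subgroup.zpowers z := by
    intro c z m hz hc hcz v
    refine pAut_trivial_section c hc (L := Subgroup.zpowers z) (K := ⊤) ?_ (fun _ _ => trivial)
      (Or.inr (hidx z hz)) v trivial
    rintro w ⟨n, rfl⟩
    show c (z ^ n) ∈ _
    rw [map_zpow, hcz]
    exact Subgroup.zpow_mem _ (Subgroup.mem_zpowers z) n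
  have hxy : y ∉ Subgroup.zpowers x := by
    rintro hy
    have hby' : ∀ w ∈ Subgroup.zpowers x, b w = w := by
      have h1 : Subgroup.zpowers y = Subgroup.zpowers x := by
        apply Subgroup.eq_of_le_of_card_ge
        · rw [Subgroup.zpowers_le]
          exact hy
        · rw [Nat.card_zpowers, Nat.card_zpowers, orderOf_eq_prime (hexp x) hx1,
            orderOf_eq_prime (hexp y) hy1]
      intro w hw
      rw [← h1] at hw
      obtain ⟨n, rfl⟩ := hw
      show b (y ^ n) = y ^ n
      rw [map_zpow, hby]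
    have hax' : ∀ w ∈ Subgroup.zpowers x, a w = w := by
      rintro w ⟨n, rfl⟩
      show a (x ^ n) = x ^ n
      rw [map_zpow, hax]
    apply hab
    apply MulEquiv.ext
    intro v
    rw [MulAut.mul_apply, MulAut.mul_apply]
    have h1 := hact a x k hx1 hak hax v
    have h2 := hact b x l hx1 hbl (hby' x (Subgroup.mem_zpowers x)) v
    have h3 : a v = v * (v⁻¹ * a v) := by group
    have h4 : b v = v * (v⁻¹ * b v) := by group
    calc a (b v) = a (v * (v⁻¹ * b v)) := by rw [← h4]
      _ = a v * (v⁻¹ * b v) := by rw [map_mul, hax' _ h2]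
      _ = b v * (v⁻¹ * a v) := by
        rw [mul_left_comm, mul_left_comm (b v), mul_comm (a v) (b v)]
      _ = b (v * (v⁻¹ * a v)) := by rw [map_mul, hby' _ h1]
      _ = b (a v) := by rw [← h3]
  obtain ⟨e, he1, he2⟩ := exists_coords hexp hcard hx1 hxy
  refine ⟨x, y, e, hax, hby, he1, he2, ?_⟩
  -- powers of an element acting as a transvection
  have hpow : ∀ (c : MulAut V) (u w : V), c u = u → w⁻¹ * c w ∈ Subgroup.zpowers u →
      (c w ≠ w) → u ≠ 1 → ∀ t : ZMod p, ∃ n : ℕ, (c ^ n) u = u ∧ (c ^ n) w = w * u ^ t.val := by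
    intro c u w hcu hcw hne hu1 t
    obtain ⟨m, hm⟩ := hcw
    have hm' : u ^ m = w⁻¹ * c w := hm
    have hmz : (m : ZMod p) ≠ 0 := by
      intro h0
      rw [ZMod.intCast_zmod_eq_zero_iff_dvd] at h0
      obtain ⟨r, rfl⟩ := h0
      rw [_root_.zpow_mul, zpow_natCast, hexp, _root_.one_zpow] at hm'
      apply hne
      exact (inv_mul_eq_one.1 hm'.symm).symm
    have hcn : ∀ n : ℕ, (c ^ n) u = u ∧ (c ^ n) w = w * u ^ (m * n) := by
      intro n
      induction n with
      | zero => simp
      | succ n ih =>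
        refine ⟨?_, ?_⟩
        · rw [pow_succ, MulAut.mul_apply, hcu, ih.1]
        · have h1 : c w = w * u ^ m := by rw [hm']; group
          rw [pow_succ', MulAut.mul_apply, ih.2, map_mul, map_zpow, hcu, h1, mul_assoc, ← _root_.zpow_add]
          congr 2
          push_cast
          ring
    refine ⟨((m : ZMod p)⁻¹ * t).val, (hcn _).1, ?_⟩
    rw [(hcn _).2]
    congr 1
    have h2 : u ^ (m * (((m : ZMod p)⁻¹ * t).val : ℤ) - (t.val : ℤ)) = 1 := by
      have h3 : (p : ℤ) ∣ (m * (((m : ZMod p)⁻¹ * t).val : ℤ) - (t.val : ℤ)) := by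
        rw [← ZMod.intCast_zmod_eq_zero_iff_dvd]
        push_cast
        rw [ZMod.natCast_zmod_val, ZMod.natCast_zmod_val]
        field_simp
        ring
      obtain ⟨r, hr⟩ := h3
      rw [hr, _root_.zpow_mul, zpow_natCast, hexp, _root_.one_zpow]
    rw [_root_.zpow_sub, mul_inv_eq_one] at h2
    rw [h2, zpow_natCast]
  have hay : a y ≠ y := by
    intro h
    have : a = 1 := aut_ext_coords e he1 he2 (by rw [hax]; rfl) (by rw [h]; rfl)
    apply hab
    rw [this, one_mul, mul_one]
  have hbx : b x ≠ x := by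
    intro h
    have : b = 1 := aut_ext_coords e he1 he2 (by rw [h]; rfl) (by rw [hby]; rfl)
    apply hab
    rw [this, one_mul, mul_one]
  have hA := hact a x k hx1 hak hax y
  have hB := hact b y l hy1 hbl hby x
  intro g
  have key := mem_of_up_lo (A.comap ((MulAut.congr e.symm).toMonoidHom.comp (planeAct p))) ?_ ?_ g
  · exact key
  · intro t
    rw [Subgroup.mem_comap]
    obtain ⟨n, hn1, hn2⟩ := hpow a x y hax hA hay hx1 t
    have h1 : MulAut.congr e.symm (planeAct p (up t)) = a ^ n := by
      have h2 := congr_planeAct_apply e he1 he2 (up t)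
      apply aut_ext_coords e he1 he2
      · rw [hn1, h2.1]
        simp [up, ZMod.val_one]
      · rw [hn2, h2.2]
        simp [up, ZMod.val_one, mul_comm]
    show MulAut.congr e.symm (planeAct p (up t)) ∈ A
    rw [h1]
    exact A.pow_mem ha n
  · intro t
    rw [Subgroup.mem_comap]
    obtain ⟨n, hn1, hn2⟩ := hpow b y x hby hB hbx hy1 t
    have h1 : MulAut.congr e.symm (planeAct p (lo t)) = b ^ n := by
      have h2 := congr_planeAct_apply e he1 he2 (lo t)
      apply aut_ext_coords e he1 he2
      · rw [hn2, h2.1]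
        simp [lo, ZMod.val_one]
      · rw [hn1, h2.2]
        simp [lo, ZMod.val_one]
    show MulAut.congr e.symm (planeAct p (lo t)) ∈ A
    rw [h1]
    exact A.pow_mem hb n

/-- The group of automorphisms generated as in `exists_SL_two` contains a copy of `SL(2,p)`. -/
theorem exists_subgroup_SL_two {V : Type*} [CommGroup V] {p : ℕ} [hp : Fact p.Prime]
    (e : V ≃* Multiplicative (Fin 2 → ZMod p)) (A : Subgroup (MulAut V))
    (h : ∀ g : SpecialLinearGroup (Fin 2) (ZMod p), MulAut.congr e.symm (planeAct p g) ∈ A) :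
    ∃ K : Subgroup A, Nonempty (K ≃* SpecialLinearGroup (Fin 2) (ZMod p)) := by
  let f : SpecialLinearGroup (Fin 2) (ZMod p) →* A :=
    ((MulAut.congr e.symm).toMonoidHom.comp (planeAct p)).codRestrict A h
  have hf : Function.Injective f := by
    intro g g' hgg
    have h1 := congrArg Subtype.val hgg
    exact planeAct_injective p ((MulAut.congr e.symm).injective h1)
  exact ⟨f.range, ⟨(MonoidHom.ofInjective hf).symm⟩⟩

end Cfsg.Agent.H766
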